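import Groth.Agent.FlatLoc6.Depth
import Groth.Agent.SyntDesc12.Basic
import Groth.Agent.LC.ExtDim
import Groth.Agent.S2089

/-!
# Depth of the local ring against depth of the fibre
-/

set_option autoImplicit false
set_option linter.style.haveILetI false

universe u

open AlgebraicGeometry CategoryTheory

namespace Groth.Agent.RelCodim6

theorem fiberStalk_depth_le {X S : Scheme.{u}} [IsLocallyNoetherian X] [IsLocallyNoetherian S]
    (f : X ⟶ S) [Flat f] (y : X) :
    LocCoh.depth ↑(CInt.fiberStalk f y) ↑(CInt.fiberStalk f y) ≤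
      LocCoh.depth ↑(X.presheaf.stalk y) ↑(X.presheaf.stalk y) := by
  obtain ⟨e⟩ := Triage.CMMor.exists_equiv_fibre_stalk_aux f y (f y) rfl (f.asFiber y) (f.fiberι_asFiber y)
  have hsm : FibFlat.sm f y (f y) rfl = (f.stalkMap y).hom := FibFlat.sm_self f y
  letI : Algebra (S.presheaf.stalk (f y)) (X.presheaf.stalk y) := (f.stalkMap y).hom.toAlgebra
  haveI : IsLocalHom (algebraMap (S.presheaf.stalk (f y)) (X.presheaf.stalk y)) :=
    inferInstanceAs (IsLocalHom (f.stalkMap y).hom)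
  haveI : Module.Flat (S.presheaf.stalk (f y)) (X.presheaf.stalk y) := Flat.stalkMap f y
  have hd := FlatLoc6.depth_tensor (A := S.presheaf.stalk (f y)) (B := X.presheaf.stalk y)
    (N := X.presheaf.stalk y) (S.presheaf.stalk (f y))
  rw [Hensel.depth_congr (TensorProduct.AlgebraTensorModule.rid (S.presheaf.stalk (f y)) (X.presheaf.stalk y)
    (X.presheaf.stalk y))] at hd
  rw [hd]
  refine le_trans (le_of_eq ?_) (self_le_add_left _ _)
  rw [hsm] at e
  have hJ : EGA4.mB (S.presheaf.stalk (f y)) (X.presheaf.stalk y) • (⊤ : Submodule (X.presheaf.stalk y) (X.presheaf.stalk y)) =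
      EGA4.mB (S.presheaf.stalk (f y)) (X.presheaf.stalk y) := by
    rw [smul_eq_mul, Ideal.mul_top]
  let eq1 : EGA4.FibMod (S.presheaf.stalk (f y)) (X.presheaf.stalk y) (X.presheaf.stalk y) ≃+
      EGA4.FibRing (S.presheaf.stalk (f y)) (X.presheaf.stalk y) :=
    (Submodule.quotEquivOfEq _ _ hJ).toAddEquiv
  haveI : IsLocalRing (EGA4.FibRing (S.presheaf.stalk (f y)) (X.presheaf.stalk y)) := inferInstance
  haveI : IsLocalRing (↑(X.presheaf.stalk y) ⧸ Ideal.map (f.stalkMap y).hom (IsLocalRing.maximalIdeal ↑(S.presheaf.stalk (f y)))) :=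
    inferInstanceAs (IsLocalRing (EGA4.FibRing (S.presheaf.stalk (f y)) (X.presheaf.stalk y)))
  refine (Alg6.depth_eq_of_semilinear e.toRingHom e.surjective (eq1.trans e.toAddEquiv) fun r m => ?_).symm
  obtain ⟨r, rfl⟩ := Ideal.Quotient.mk_surjective r
  obtain ⟨m, rfl⟩ := Submodule.Quotient.mk_surjective _ m
  show e (Ideal.Quotient.mk _ (r * m)) = e (Ideal.Quotient.mk _ r) * e (Ideal.Quotient.mk _ m)
  rw [map_mul, map_mul]

theorem ringKrullDim_le_depth_of_cm {R : Type u} [CommRing R] (h : LocCoh.IsCohenMacaulayLocalRing R) :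
    ringKrullDim R ≤ ((LocCoh.depth R R : ℕ∞) : WithBot ℕ∞) := by
  rw [← h.supportDim_eq_depth, Module.supportDim_self_eq_ringKrullDim]

theorem depth_le_dim {R : Type u} [CommRing R] [IsLocalRing R] [IsNoetherianRing R] :
    ((LocCoh.depth R R : ℕ∞) : WithBot ℕ∞) ≤ ringKrullDim R := by
  obtain ⟨p, hp⟩ := associatedPrimes.nonempty R R
  exact (Groth.Agent.S2089.result p hp).trans (ringKrullDim_quotient_le p)

theorem cm_fiberStalk_dim_le_depth {X S : Scheme.{u}} [IsLocallyNoetherian X] [IsLocallyNoetherian S]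
    (f : X ⟶ S) [Flat f] (y : X) (hCM : LocCoh.IsCohenMacaulayLocalRing ↑(CInt.fiberStalk f y)) :
    ringKrullDim ↑(CInt.fiberStalk f y) ≤
      ((LocCoh.depth ↑(X.presheaf.stalk y) ↑(X.presheaf.stalk y) : ℕ∞) : WithBot ℕ∞) :=
  (ringKrullDim_le_depth_of_cm hCM).trans (WithBot.coe_le_coe.2 (fiberStalk_depth_le f y))

end Groth.Agent.RelCodim6
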